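import Mathlib

/-!
# A central Sylow subgroup is a retract
-/

set_option autoImplicit false

namespace Cfsg.Agent.Lib.Helper98.BL

open Subgroup

variable {H : Type*} [Group H] [Finite H] {p : ℕ} [Fact p.Prime]

theorem exists_retraction (Q : Sylow p H) (hQ : (Q : Subgroup H) ≤ center H) :
    ∃ r : H →* (Q : Subgroup H), (∀ z : (Q : Subgroup H), r z = z) ∧ ¬ p ∣ Nat.card r.ker := by
  have hN : normalizer ((Q : Subgroup H) : Set H) ≤ centralizer ((Q : Subgroup H) : Set H) := by
    intro h _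
    rw [mem_centralizer_iff]
    intro q hq
    exact (mem_center_iff.1 (hQ hq) h).symm
  have hcomm : ∀ a b : (Q : Subgroup H), Commute a b := by
    intro a b
    apply Subtype.ext
    exact (mem_center_iff.1 (hQ a.2) b).symm
  let pw : (Q : Subgroup H) →* (Q : Subgroup H) :=
    { toFun := fun z => z ^ (Q : Subgroup H).index
      map_one' := one_pow _
      map_mul' := fun a b => (hcomm a b).mul_pow _ }
  have hbij : Function.Bijective pw := (Q.2.powEquiv' Q.not_dvd_index).bijective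
  let E : (Q : Subgroup H) ≃* (Q : Subgroup H) := MulEquiv.ofBijective pw hbij
  refine ⟨E.symm.toMonoidHom.comp (MonoidHom.transferSylow Q hN), ?_, ?_⟩
  · intro z
    have h1 : MonoidHom.transferSylow Q hN z = E z := by
      rw [MonoidHom.transferSylow_eq_pow Q hN z z.2]
      rfl
    simp only [MonoidHom.comp_apply, h1]
    exact E.symm_apply_apply z
  · have h2 : (E.symm.toMonoidHom.comp (MonoidHom.transferSylow Q hN)).ker =
        (MonoidHom.transferSylow Q hN).ker := by
      ext x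
      simp [MonoidHom.mem_ker]
    rw [h2]
    exact MonoidHom.not_dvd_card_ker_transferSylow Q hN

variable (Q : Subgroup H) (hQ : Q ≤ center H) (r : H →* Q) (hr : ∀ z : Q, r z = z)

include hQ hr in
theorem pow_card_ker (c : H) : c ^ Nat.card r.ker = ((r c : Q) : H) ^ Nat.card r.ker := by
  have hv : ((r c : Q) : H)⁻¹ * c ∈ r.ker := by
    rw [MonoidHom.mem_ker, map_mul, map_inv, hr, inv_mul_cancel]
  have hv1 : (((r c : Q) : H)⁻¹ * c) ^ Nat.card r.ker = 1 := by
    have := pow_card_eq_one' (x := (⟨_, hv⟩ : r.ker))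
    exact congrArg Subtype.val this
  have hc : c = ((r c : Q) : H) * (((r c : Q) : H)⁻¹ * c) := by group
  have hcom : Commute ((r c : Q) : H) (((r c : Q) : H)⁻¹ * c) :=
    (mem_center_iff.1 (hQ (r c).2) _).symm
  conv_lhs => rw [hc, hcom.mul_pow, hv1, mul_one]

include hQ hr in
theorem mem_of_pow_eq_one (hker : ¬ p ∣ Nat.card r.ker) (c : H) (n : ℕ) (hc : c ^ p ^ n = 1)
    (hQn : ∀ z : Q, z ^ p ^ n = 1) : c ∈ Q := by
  have hv : ((r c : Q) : H)⁻¹ * c ∈ r.ker := by
    rw [MonoidHom.mem_ker, map_mul, map_inv, hr, inv_mul_cancel]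
  have hv1 : (((r c : Q) : H)⁻¹ * c) ^ Nat.card r.ker = 1 := by
    have := pow_card_eq_one' (x := (⟨_, hv⟩ : r.ker))
    exact congrArg Subtype.val this
  have hcom : Commute (((r c : Q) : H)⁻¹) c :=
    (mem_center_iff.1 (inv_mem (hQ (r c).2)) _).symm
  have hv2 : (((r c : Q) : H)⁻¹ * c) ^ p ^ n = 1 := by
    rw [hcom.mul_pow, hc, mul_one, inv_pow]
    have := congrArg Subtype.val (hQn (r c))
    simp only [Subgroup.coe_pow, Subgroup.coe_one] at this
    rw [this, inv_one]
  have hcop : Nat.Coprime (p ^ n) (Nat.card r.ker) :=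
    Nat.Coprime.pow_left n ((Nat.Prime.coprime_iff_not_dvd Fact.out).2 hker)
  have h1 : orderOf (((r c : Q) : H)⁻¹ * c) ∣ 1 := by
    rw [← hcop.gcd_eq_one]
    exact Nat.dvd_gcd (orderOf_dvd_of_pow_eq_one hv2) (orderOf_dvd_of_pow_eq_one hv1)
  have h2 : ((r c : Q) : H)⁻¹ * c = 1 := orderOf_eq_one_iff.1 (Nat.dvd_one.1 h1)
  have h3 : c = ((r c : Q) : H) := by
    rw [inv_mul_eq_one] at h2
    exact h2.symm
  rw [h3]
  exact (r c).2

end Cfsg.Agent.Lib.Helper98.BL
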