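import Cfsg.Agent.Lib.Helper98.BL.Ind
import Cfsg.Agent.Lib.Helper98.BL.Retract

/-!
# The data attached to a Sylow subgroup `P` with `C_G(x) = C_G(P)` for all `1 ≠ x ∈ P`
-/

set_option autoImplicit false
set_option linter.unusedSectionVars false

namespace Cfsg.Agent.Lib.Helper98.BL

open Subgroup

universe u

variable {G : Type u} [Group G] [Finite G] {p : ℕ} [Fact p.Prime] (P : Sylow p G)

theorem le_centralizer_self
    (hstar : ∀ x ∈ (P : Subgroup G), x ≠ 1 →
      centralizer ({x} : Set G) = centralizer ((P : Subgroup G) : Set G))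
    (hne : Nontrivial (P : Subgroup G)) :
    (P : Subgroup G) ≤ centralizer ((P : Subgroup G) : Set G) := by
  have hc : Nontrivial (center (P : Subgroup G)) := IsPGroup.center_nontrivial P.2
  obtain ⟨z, hz⟩ := exists_ne (1 : center (P : Subgroup G))
  have hz1 : (((z : (P : Subgroup G)) : G)) ≠ 1 := by
    intro h
    apply hz
    apply Subtype.ext
    apply Subtype.ext
    exact h
  rw [← hstar _ (z : (P : Subgroup G)).2 hz1]
  intro y hy
  rw [mem_centralizer_singleton_iff]
  have := mem_center_iff.1 z.2 ⟨y, hy⟩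
  exact congrArg Subtype.val this

theorem conj_comm_iff (g y h : G) :
    y * h = h * y ↔ (g * y * g⁻¹) * (g * h * g⁻¹) = (g * h * g⁻¹) * (g * y * g⁻¹) := by
  constructor
  · intro H
    calc (g * y * g⁻¹) * (g * h * g⁻¹) = g * (y * h) * g⁻¹ := by group
      _ = g * (h * y) * g⁻¹ := by rw [H]
      _ = _ := by group
  · intro H
    calc y * h = g⁻¹ * ((g * y * g⁻¹) * (g * h * g⁻¹)) * g := by group
      _ = g⁻¹ * ((g * h * g⁻¹) * (g * y * g⁻¹)) * g := by rw [H]
      _ = _ := by group

theorem exists_data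
    (hstar : ∀ x ∈ (P : Subgroup G), x ≠ 1 →
      centralizer ({x} : Set G) = centralizer ((P : Subgroup G) : Set G))
    (hne : Nontrivial (P : Subgroup G)) :
    ∃ D : Data G, D.C = centralizer ((P : Subgroup G) : Set G) ∧ D.Z = (P : Subgroup G) := by
  have hle := le_centralizer_self P hstar hne
  set C : Subgroup G := centralizer ((P : Subgroup G) : Set G) with hC
  set Q : Sylow p C := P.subtype hle with hQdef
  have hQmem : ∀ c : C, c ∈ (Q : Subgroup C) ↔ (c : G) ∈ (P : Subgroup G) := fun c => Iff.rfl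
  have hQ : (Q : Subgroup C) ≤ center C := by
    intro c hc
    rw [mem_center_iff]
    intro d
    apply Subtype.ext
    exact (mem_centralizer_iff.1 d.2 c ((hQmem c).1 hc)).symm
  obtain ⟨r₀, hr₀, hker⟩ := exists_retraction Q hQ
  let e : (Q : Subgroup C) ≃* (P : Subgroup G) := subgroupOfEquivOfLe hle
  have he : ∀ z : (Q : Subgroup C), ((e z : (P : Subgroup G)) : G) = ((z : C) : G) := fun z => rfl
  set m := Nat.card r₀.ker with hm
  obtain ⟨n, hn⟩ := IsPGroup.iff_card.1 P.2
  have hPn : ∀ y ∈ (P : Subgroup G), y ^ p ^ n = 1 := by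
    intro y hy
    have := pow_card_eq_one' (x := (⟨y, hy⟩ : (P : Subgroup G)))
    rw [hn] at this
    exact congrArg Subtype.val this
  have hQn : ∀ z : (Q : Subgroup C), z ^ p ^ n = 1 := by
    intro z
    apply Subtype.ext
    apply Subtype.ext
    exact hPn _ ((hQmem z).1 z.2)
  -- powers
  have hpow : ∀ c : C, (c : G) ^ m = (((r₀ c : (Q : Subgroup C)) : C) : G) ^ m := by
    intro c
    have := pow_card_ker (Q : Subgroup C) hQ r₀ hr₀ c
    exact congrArg Subtype.val this
  have hppP : ∀ c : C, (((r₀ c : (Q : Subgroup C)) : C) : G) ∈ (P : Subgroup G) :=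
    fun c => (hQmem _).1 (r₀ c).2
  have hpow_ne : ∀ y ∈ (P : Subgroup G), y ≠ 1 → y ^ m ≠ 1 := by
    intro y hy hy1 hym
    apply hy1
    have hcop : Nat.Coprime (p ^ n) m :=
      Nat.Coprime.pow_left n ((Nat.Prime.coprime_iff_not_dvd Fact.out).2 hker)
    have h1 : orderOf y ∣ 1 := by
      rw [← hcop.gcd_eq_one]
      exact Nat.dvd_gcd (orderOf_dvd_of_pow_eq_one (hPn y hy)) (orderOf_dvd_of_pow_eq_one hym)
    exact orderOf_eq_one_iff.1 (Nat.dvd_one.1 h1)
  have hcommP : ∀ a ∈ (P : Subgroup G), ∀ b ∈ (P : Subgroup G), a * b = b * a := by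
    intro a ha b hb
    exact mem_centralizer_iff.1 (hle hb) a ha
  refine ⟨{ C := C
            Z := P
            hZC := hle
            hcent := fun z hz c hc => mem_centralizer_iff.1 hc z hz
            r := e.toMonoidHom.comp r₀
            hr := ?_
            hTI := ?_
            hSR := ?_ }, rfl, rfl⟩
  · intro z
    have h1 : (⟨(z : G), hle z.2⟩ : C) = ((e.symm z : (Q : Subgroup C)) : C) := by
      apply Subtype.ext
      rw [← he (e.symm z), e.apply_symm_apply]
    rw [h1]
    simp only [MonoidHom.comp_apply, hr₀]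
    exact e.apply_symm_apply z
  · intro c hc g hg
    have hc0 : (((r₀ c : (Q : Subgroup C)) : C) : G) ≠ 1 := by
      intro h
      apply hc
      have h2 : r₀ c = 1 := by
        apply Subtype.ext
        apply Subtype.ext
        exact h
      simp [h2]
    set y : G := (((r₀ c : (Q : Subgroup C)) : C) : G) ^ m with hy
    have hyP : y ∈ (P : Subgroup G) := pow_mem (hppP c) m
    have hy1 : y ≠ 1 := hpow_ne _ (hppP c) hc0
    have hgy : g * y * g⁻¹ = (((r₀ ⟨g * c * g⁻¹, hg⟩ : (Q : Subgroup C)) : C) : G) ^ m := by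
      rw [← hpow ⟨g * c * g⁻¹, hg⟩, hy, ← hpow c]
      simp only [conj_pow]
    have hgyP : g * y * g⁻¹ ∈ (P : Subgroup G) := by
      rw [hgy]
      exact pow_mem (hppP _) m
    have hgy1 : g * y * g⁻¹ ≠ 1 := by
      intro h
      apply hy1
      have : y = g⁻¹ * (g * y * g⁻¹) * g := by group
      rw [this, h]
      group
    rw [mem_normalizer_iff]
    intro h
    have h1 : h ∈ C ↔ y * h = h * y := by
      rw [← hstar y hyP hy1, mem_centralizer_singleton_iff, eq_comm]
    have h2 : g * h * g⁻¹ ∈ C ↔ (g * y * g⁻¹) * (g * h * g⁻¹) = (g * h * g⁻¹) * (g * y * g⁻¹) := by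
      rw [← hstar _ hgyP hgy1, mem_centralizer_singleton_iff, eq_comm]
    rw [h1, h2]
    exact conj_comm_iff g y h
  · intro x hx hxC w hw
    have hconj : ∀ y ∈ (P : Subgroup G), x⁻¹ * y * x ∈ (P : Subgroup G) := by
      intro y hy
      have h1 : x⁻¹ * y * x ∈ C := by
        have := (mem_normalizer_iff.1 (inv_mem hx) y).1 (hle hy)
        simpa using this
      have h2 : (⟨x⁻¹ * y * x, h1⟩ : C) ^ p ^ n = 1 := by
        apply Subtype.ext
        have h3 : (x⁻¹ * y * x) ^ p ^ n = x⁻¹ * y ^ p ^ n * x := by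
          have := conj_pow (a := x⁻¹) (b := y) (i := p ^ n)
          simpa using this
        simp only [Subgroup.coe_pow, Subgroup.coe_one, h3, hPn y hy]
        group
      exact (hQmem _).1 (mem_of_pow_eq_one (Q : Subgroup C) hQ r₀ hr₀ hker _ n h2 hQn)
    let τ : ↥(P : Subgroup G) → ↥(P : Subgroup G) :=
      fun y => ⟨(y : G)⁻¹ * (x⁻¹ * y * x), mul_mem (inv_mem y.2) (hconj y y.2)⟩
    have hτ : Function.Injective τ := by
      intro a b hab
      have h1 : (a : G)⁻¹ * (x⁻¹ * a * x) = (b : G)⁻¹ * (x⁻¹ * b * x) := congrArg Subtype.val hab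
      by_contra hne'
      apply hxC
      have hu : (a : G) * (b : G)⁻¹ ∈ (P : Subgroup G) := mul_mem a.2 (inv_mem b.2)
      have hu1 : (a : G) * (b : G)⁻¹ ≠ 1 := by
        intro h
        apply hne'
        apply Subtype.ext
        exact mul_inv_eq_one.1 h
      rw [← hstar _ hu hu1, mem_centralizer_singleton_iff, eq_comm]
      -- `x⁻¹ a x = a t`, `x⁻¹ b x = b t`
      have h2 : x⁻¹ * a * x = (a : G) * ((b : G)⁻¹ * (x⁻¹ * b * x)) := by
        rw [← h1]; group
      have h3 : x⁻¹ * ((a : G) * (b : G)⁻¹) * x = (a : G) * (b : G)⁻¹ := by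
        have h4 : x⁻¹ * ((a : G) * (b : G)⁻¹) * x = (x⁻¹ * a * x) * (x⁻¹ * b * x)⁻¹ := by group
        rw [h4, h2]
        group
      calc (a : G) * (b : G)⁻¹ * x = x * (x⁻¹ * ((a : G) * (b : G)⁻¹) * x) := by group
        _ = x * ((a : G) * (b : G)⁻¹) := by rw [h3]
    obtain ⟨y, hy⟩ := (Finite.injective_iff_surjective.1 hτ) ⟨w, hw⟩
    exact ⟨y, y.2, hconj y y.2, (congrArg Subtype.val hy).symm⟩

end Cfsg.Agent.Lib.Helper98.BL
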