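import Cfsg.Agent.Lib.Helper98.BL.Ind

/-!
# Conjugate characters of `C` under its normalizer: values of `cc`
-/

set_option autoImplicit false
set_option linter.unusedSectionVars false

namespace Cfsg.Agent.Lib.Helper98.BL

open Cfsg Cfsg.Agent.Lib.Helper20
open scoped ComplexConjugate

universe u

variable {G : Type u} [Group G]

namespace Data

variable (D : Data G)

/-- the inclusion of `Z` in `C` -/
def inZ (z : D.Z) : D.C := ⟨z, D.hZC z.2⟩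

theorem inZ_mem_center (z : D.Z) : D.inZ z ∈ Subgroup.center D.C := by
  rw [Subgroup.mem_center_iff]
  intro c
  apply Subtype.ext
  exact (D.hcent z z.2 c c.2).symm

theorem r_inZ (z : D.Z) : D.r (D.inZ z) = z := D.hr z

theorem inZ_one : D.inZ 1 = 1 := rfl

theorem inZ_mul (a b : D.Z) : D.inZ (a * b) = D.inZ a * D.inZ b := rfl

theorem inZ_inv (a : D.Z) : D.inZ a⁻¹ = (D.inZ a)⁻¹ := rfl

/-- `ζ` is trivial on `Z` -/
def PTriv (ζ : D.C → ℂ) : Prop := ∀ z : D.Z, ζ (D.inZ z) = ζ 1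

/-- `ζ'` is an `N`-conjugate of `ζ` -/
def Cj (ζ ζ' : D.C → ℂ) : Prop := ∃ x : D.N, ζ ∘ D.cj x = ζ'

theorem comp_cj_mul (ζ : D.C → ℂ) (x y : D.N) : ζ ∘ D.cj (x * y) = (ζ ∘ D.cj y) ∘ D.cj x := by
  funext c
  simp [cj_mul]

theorem comp_cj_one (ζ : D.C → ℂ) : ζ ∘ D.cj 1 = ζ := by
  funext c
  simp [cj_one]

theorem Cj.symm {D : Data G} {ζ ζ' : D.C → ℂ} (h : D.Cj ζ ζ') : D.Cj ζ' ζ := by
  obtain ⟨x, rfl⟩ := h
  refine ⟨x⁻¹, ?_⟩
  rw [← comp_cj_mul, inv_mul_cancel, comp_cj_one]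

theorem Cj.refl (ζ : D.C → ℂ) : D.Cj ζ ζ := ⟨1, D.comp_cj_one ζ⟩

variable [Finite G]

/-- stabilizer lemma: an irreducible character of `C` fixed by an element of `N` outside `C` is
trivial on `Z`. -/
theorem pTriv_of_fixed {ζ : D.C → ℂ} (hζ : IsIrrCharacter D.C ζ) (u : D.N)
    (hu : ζ ∘ D.cj u = ζ) (huC : (u : G) ∉ D.C) : D.PTriv ζ := by
  intro w
  obtain ⟨y, hy, hy', hw⟩ := D.hSR u u.2 huC w w.2
  have hw' : D.inZ w = (D.inZ ⟨y, hy⟩)⁻¹ * D.cj u (D.inZ ⟨y, hy⟩) := by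
    apply Subtype.ext
    exact hw
  have h1 := Cfsg.Agent.Lib.Helper82.isIrr_central_mul hζ
    (inv_mem (D.inZ_mem_center ⟨y, hy⟩)) (D.cj u (D.inZ ⟨y, hy⟩))
  have h2 : ζ (D.cj u (D.inZ ⟨y, hy⟩)) = ζ (D.inZ ⟨y, hy⟩) := congrFun hu _
  have h3 := Cfsg.Agent.Lib.Helper82.isIrr_central_mul_conj hζ (D.inZ_mem_center ⟨y, hy⟩)
  rw [← hw', h2, isCharacter_inv (Cfsg.Agent.Lib.Helper82.isIrr_isChar hζ)] at h1
  have h0 := Cfsg.Agent.Lib.Helper82.isIrr_one_ne_zero hζ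
  apply mul_right_cancel₀ h0
  rw [h1, mul_comm, h3, sq]

theorem mem_C_of_fixed {ζ : D.C → ℂ} (hζ : IsIrrCharacter D.C ζ) (hnt : ¬ D.PTriv ζ) (u : D.N)
    (hu : ζ ∘ D.cj u = ζ) : (u : G) ∈ D.C := by
  by_contra h
  exact hnt (D.pTriv_of_fixed hζ u hu h)

/-- the fibre of `x ↦ ζ ∘ cj x` through `x₀` contains the coset `x₀ C` -/
theorem comp_cj_mul_inC {ζ : D.C → ℂ} (hζ : IsClassFunction D.C ζ) (x₀ : D.N) (c : D.C) :
    ζ ∘ D.cj (x₀ * D.inC c) = ζ ∘ D.cj x₀ := by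
  rw [comp_cj_mul, D.comp_cj_inC hζ]

theorem card_le_card_fibre {ζ ζ' : D.C → ℂ} (hζ : IsClassFunction D.C ζ) (h : D.Cj ζ ζ') :
    Nat.card D.C ≤ Nat.card {x : D.N // ζ ∘ D.cj x = ζ'} := by
  obtain ⟨x₀, hx₀⟩ := h
  apply Nat.card_le_card_of_injective
    (fun c : D.C => (⟨x₀ * D.inC c, by rw [D.comp_cj_mul_inC hζ, hx₀]⟩ :
      {x : D.N // ζ ∘ D.cj x = ζ'}))
  intro a b hab
  have h1 : x₀ * D.inC a = x₀ * D.inC b := congrArg Subtype.val hab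
  have h2 : D.inC a = D.inC b := mul_left_cancel h1
  apply Subtype.ext
  exact congrArg (fun t : D.N => (t : G)) h2

theorem card_fibre_eq {ζ ζ' : D.C → ℂ} (hζ : IsIrrCharacter D.C ζ) (hnt : ¬ D.PTriv ζ)
    (h : D.Cj ζ ζ') : Nat.card {x : D.N // ζ ∘ D.cj x = ζ'} = Nat.card D.C := by
  have hcl : IsClassFunction D.C ζ :=
    Cfsg.Agent.Lib.Helper82.isChar_isClassFunction (Cfsg.Agent.Lib.Helper82.isIrr_isChar hζ)
  apply le_antisymm _ (D.card_le_card_fibre hcl h)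
  obtain ⟨x₀, hx₀⟩ := h
  have key : ∀ x : {x : D.N // ζ ∘ D.cj x = ζ'}, ((x₀⁻¹ * (x : D.N) : D.N) : G) ∈ D.C := by
    intro x
    apply D.mem_C_of_fixed hζ hnt
    rw [comp_cj_mul, x.2, ← hx₀, ← comp_cj_mul, inv_mul_cancel, comp_cj_one]
  apply Nat.card_le_card_of_injective
    (fun x : {x : D.N // ζ ∘ D.cj x = ζ'} => (⟨_, key x⟩ : D.C))
  intro a b hab
  have h1 : ((x₀⁻¹ * (a : D.N) : D.N) : G) = ((x₀⁻¹ * (b : D.N) : D.N) : G) :=
    congrArg (fun t : D.C => (t : G)) hab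
  have h2 : x₀⁻¹ * (a : D.N) = x₀⁻¹ * (b : D.N) := Subtype.ext h1
  exact Subtype.ext (mul_left_cancel h2)

section Fin

variable [Fintype G] [Fintype D.C] [Fintype D.N]

theorem cc_eq_card {ζ ζ' : D.C → ℂ} (hζ : IsIrrCharacter D.C ζ) (hζ' : IsIrrCharacter D.C ζ') :
    D.cc ζ ζ' = (Nat.card D.C : ℂ)⁻¹ * (Nat.card {x : D.N // ζ ∘ D.cj x = ζ'} : ℂ) := by
  classical
  unfold cc
  congr 1
  have h : ∀ x : D.N, classInner (ζ ∘ D.cj x) ζ' = if ζ ∘ D.cj x = ζ' then 1 else 0 :=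
    fun x => classInner_irr (D.isIrr_comp_cj hζ x) hζ'
  simp only [h]
  rw [Finset.sum_boole, Nat.card_eq_fintype_card, Fintype.card_subtype]

theorem cc_of_not_cj {ζ ζ' : D.C → ℂ} (hζ : IsIrrCharacter D.C ζ) (hζ' : IsIrrCharacter D.C ζ')
    (h : ¬ D.Cj ζ ζ') : D.cc ζ ζ' = 0 := by
  rw [D.cc_eq_card hζ hζ']
  have : IsEmpty {x : D.N // ζ ∘ D.cj x = ζ'} := ⟨fun x => h ⟨x.1, x.2⟩⟩
  simp

theorem cc_of_cj {ζ ζ' : D.C → ℂ} (hζ : IsIrrCharacter D.C ζ) (hζ' : IsIrrCharacter D.C ζ')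
    (hnt : ¬ D.PTriv ζ) (h : D.Cj ζ ζ') : D.cc ζ ζ' = 1 := by
  rw [D.cc_eq_card hζ hζ', D.card_fibre_eq hζ hnt h]
  exact inv_mul_cancel₀ (by exact_mod_cast Nat.card_pos.ne')

theorem cc_eq_ite {ζ ζ' : D.C → ℂ} (hζ : IsIrrCharacter D.C ζ) (hζ' : IsIrrCharacter D.C ζ')
    (hnt : ¬ D.PTriv ζ) [Decidable (D.Cj ζ ζ')] : D.cc ζ ζ' = if D.Cj ζ ζ' then 1 else 0 := by
  split_ifs with h
  · exact D.cc_of_cj hζ hζ' hnt h
  · exact D.cc_of_not_cj hζ hζ' h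

theorem cc_one_one (e : ℕ) (he : Nat.card D.N = e * Nat.card D.C) :
    D.cc (fun _ => 1) (fun _ => 1) = e := by
  have h1 : IsIrrCharacter D.C (fun _ => (1 : ℂ)) := Cfsg.Agent.Lib.Helper83.isIrr_trivial
  rw [D.cc_eq_card h1 h1]
  have : Nat.card {x : D.N // (fun _ : D.C => (1 : ℂ)) ∘ D.cj x = fun _ => 1} = Nat.card D.N :=
    Nat.card_congr (Equiv.subtypeUnivEquiv (fun x => rfl))
  rw [this, he]
  have h0 : (Nat.card D.C : ℂ) ≠ 0 := by exact_mod_cast Nat.card_pos.ne'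
  push_cast
  field_simp

/-- a family of pairwise distinct conjugates of `ζ` has at most `e = |N : C|` members -/
theorem card_le_of_cj {ι : Type*} (T : Finset ι) (f : ι → D.C → ℂ) (hf : Set.InjOn f T)
    {ζ : D.C → ℂ} (hζ : IsClassFunction D.C ζ) (h : ∀ i ∈ T, D.Cj ζ (f i))
    (e : ℕ) (he : Nat.card D.N = e * Nat.card D.C) : T.card ≤ e := by
  classical
  have h1 : T.card * Nat.card D.C ≤ ∑ i ∈ T, Nat.card {x : D.N // ζ ∘ D.cj x = f i} := by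
    rw [← smul_eq_mul, ← Finset.sum_const]
    exact Finset.sum_le_sum (fun i hi => D.card_le_card_fibre hζ (h i hi))
  have h2 : ∑ i ∈ T, Nat.card {x : D.N // ζ ∘ D.cj x = f i} ≤ Nat.card D.N := by
    have h3 : ∀ i, Nat.card {x : D.N // ζ ∘ D.cj x = f i} =
        ∑ x : D.N, if ζ ∘ D.cj x = f i then 1 else 0 := by
      intro i
      rw [Finset.sum_boole, Nat.card_eq_fintype_card, Fintype.card_subtype]
      simp
    simp only [h3]
    rw [Finset.sum_comm, Nat.card_eq_fintype_card, ← Finset.card_univ, Finset.card_eq_sum_ones]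
    apply Finset.sum_le_sum
    intro x _
    rw [Finset.sum_boole]
    simp only [Nat.cast_id]
    apply Finset.card_le_one.2
    intro a ha b hb
    simp only [Finset.mem_filter] at ha hb
    exact hf ha.1 hb.1 (ha.2.symm.trans hb.2)
  have h4 : T.card * Nat.card D.C ≤ e * Nat.card D.C := he ▸ (h1.trans h2)
  exact Nat.le_of_mul_le_mul_right h4 Nat.card_pos

end Fin

end Data

end Cfsg.Agent.Lib.Helper98.BL
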