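import Cfsg.Agent.Lib.Helper98.BL.Conj
import Cfsg.Agent.Lib.Helper4.CharDecomp

/-!
# Linear characters of `C` inflated from `Z`, twisting, multiplicities, and the weight `W`
-/

set_option autoImplicit false
set_option linter.unusedSectionVars false

namespace Cfsg.Agent.Lib.Helper98.BL

open Cfsg Cfsg.Agent.Lib.Helper20
open scoped ComplexConjugate

universe u

variable {G : Type u} [Group G]

namespace Data

variable (D : Data G)

/-- the dual group of `Z` -/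
abbrev X : Type u := D.Z →* ℂˣ

/-- inflation of a linear character of `Z` to `C` along the retraction -/
def hat (κ : D.X) : D.C → ℂ := fun c => ((κ (D.r c) : ℂˣ) : ℂ)

theorem isIrr_hat (κ : D.X) : IsIrrCharacter D.C (D.hat κ) :=
  Cfsg.Agent.Lib.Helper83.isIrr_of_hom (κ.comp D.r)

theorem hat_of_r {κ : D.X} {c : D.C} (h : D.r c = 1) : D.hat κ c = 1 := by
  simp [hat, h]

theorem hat_apply_one (κ : D.X) : D.hat κ 1 = 1 := D.hat_of_r (map_one _)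

theorem hat_inZ (κ : D.X) (z : D.Z) : D.hat κ (D.inZ z) = ((κ z : ℂˣ) : ℂ) := by
  simp [hat, r_inZ]

theorem hat_one : D.hat 1 = fun _ => 1 := by
  funext c
  simp [hat]

theorem hat_mul (κ κ' : D.X) : D.hat (κ * κ') = D.hat κ * D.hat κ' := by
  funext c
  simp [hat]

/-- the twist of `ζ₀` by `κ` -/
def zk (ζ₀ : D.C → ℂ) (κ : D.X) : D.C → ℂ := D.hat κ * ζ₀

theorem zk_apply (ζ₀ : D.C → ℂ) (κ : D.X) (c : D.C) : D.zk ζ₀ κ c = D.hat κ c * ζ₀ c := rfl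

theorem zk_of_r (ζ₀ : D.C → ℂ) (κ : D.X) {c : D.C} (h : D.r c = 1) : D.zk ζ₀ κ c = ζ₀ c := by
  rw [zk_apply, D.hat_of_r h, one_mul]

theorem zk_apply_one (ζ₀ : D.C → ℂ) (κ : D.X) : D.zk ζ₀ κ 1 = ζ₀ 1 := D.zk_of_r ζ₀ κ (map_one _)

theorem zk_one (ζ₀ : D.C → ℂ) : D.zk ζ₀ 1 = ζ₀ := by
  funext c
  rw [zk_apply, hat_one, one_mul]

theorem zk_one_fun (κ : D.X) : D.zk (fun _ => 1) κ = D.hat κ := by
  funext c
  rw [zk_apply, mul_one]

theorem zk_inZ {ζ₀ : D.C → ℂ} (h : D.PTriv ζ₀) (κ : D.X) (z : D.Z) :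
    D.zk ζ₀ κ (D.inZ z) = ((κ z : ℂˣ) : ℂ) * ζ₀ 1 := by
  rw [zk_apply, hat_inZ, h z]

theorem zk_injective {ζ₀ : D.C → ℂ} (h : D.PTriv ζ₀) (h0 : ζ₀ 1 ≠ 0) :
    Function.Injective (D.zk ζ₀) := by
  intro κ κ' hk
  ext z
  have := congrFun hk (D.inZ z)
  rw [D.zk_inZ h, D.zk_inZ h] at this
  exact mul_right_cancel₀ h0 this

theorem zk_not_pTriv {ζ₀ : D.C → ℂ} (h : D.PTriv ζ₀) (h0 : ζ₀ 1 ≠ 0) {κ : D.X} (hκ : κ ≠ 1) :
    ¬ D.PTriv (D.zk ζ₀ κ) := by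
  intro hp
  apply hκ
  ext z
  have := hp z
  rw [D.zk_inZ h, zk_apply_one] at this
  have h2 : ((κ z : ℂˣ) : ℂ) = 1 := by
    apply mul_right_cancel₀ h0
    rw [this, one_mul]
  simpa using h2

variable [Finite G]

theorem isIrr_zk {ζ₀ : D.C → ℂ} (h : IsIrrCharacter D.C ζ₀) (κ : D.X) :
    IsIrrCharacter D.C (D.zk ζ₀ κ) :=
  Cfsg.Agent.Lib.Helper82.isIrr_linear_mul (Cfsg.Agent.Lib.Helper82.isIrr_isChar (D.isIrr_hat κ))
    (D.hat_apply_one κ) h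

/-- the central character of an irreducible character of `C` on `Z` -/
noncomputable def lam {ζ : D.C → ℂ} (hζ : IsIrrCharacter D.C ζ) : D.X :=
  MonoidHom.toHomUnits
    { toFun := fun z => ζ (D.inZ z) / ζ 1
      map_one' := by
        rw [inZ_one]
        exact div_self (Cfsg.Agent.Lib.Helper82.isIrr_one_ne_zero hζ)
      map_mul' := by
        intro a b
        have h0 := Cfsg.Agent.Lib.Helper82.isIrr_one_ne_zero hζ
        have := Cfsg.Agent.Lib.Helper82.isIrr_central_mul hζ (D.inZ_mem_center a) (D.inZ b)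
        rw [inZ_mul]
        field_simp
        exact this }

theorem lam_apply {ζ : D.C → ℂ} (hζ : IsIrrCharacter D.C ζ) (z : D.Z) :
    ((D.lam hζ z : ℂˣ) : ℂ) = ζ (D.inZ z) / ζ 1 := rfl

/-- every irreducible character of `C` is a twist of one which is trivial on `Z` -/
theorem exists_zk {ζ : D.C → ℂ} (hζ : IsIrrCharacter D.C ζ) :
    ∃ (ζ₀ : D.C → ℂ) (κ : D.X), IsIrrCharacter D.C ζ₀ ∧ D.PTriv ζ₀ ∧ ζ = D.zk ζ₀ κ ∧
      (¬ D.PTriv ζ → κ ≠ 1) := by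
  have h0 := Cfsg.Agent.Lib.Helper82.isIrr_one_ne_zero hζ
  refine ⟨D.zk ζ (D.lam hζ)⁻¹, D.lam hζ, D.isIrr_zk hζ _, ?_, ?_, ?_⟩
  · intro z
    rw [zk_apply_one, zk_apply, hat_inZ]
    have h1 : (((D.lam hζ)⁻¹ z : ℂˣ) : ℂ) = (ζ (D.inZ z) / ζ 1)⁻¹ := by
      rw [MonoidHom.inv_apply, Units.val_inv_eq_inv_val, lam_apply]
    rw [h1]
    have h2 : ζ (D.inZ z) ≠ 0 := by
      intro h
      have := Cfsg.Agent.Lib.Helper82.isIrr_central_mul_conj hζ (D.inZ_mem_center z)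
      rw [h, zero_mul] at this
      exact h0 (pow_eq_zero_iff (two_ne_zero) |>.1 this.symm)
    field_simp
  · funext c
    have h1 : D.lam hζ * (D.lam hζ)⁻¹ = 1 := by
      ext z
      simp
    rw [zk_apply, zk_apply, ← mul_assoc, ← Pi.mul_apply, ← hat_mul, h1, hat_one,
      one_mul]
  · intro hnt hk
    apply hnt
    intro z
    have := D.lam_apply hζ z
    rw [hk] at this
    simp only [MonoidHom.one_apply, Units.val_one] at this
    field_simp at this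
    exact this.symm

section Fin

variable [Fintype G] [Fintype D.C] [Fintype D.N]

theorem isChar_res {ψ : G → ℂ} (hψ : IsCharacter G ψ) : IsCharacter D.C (D.res ψ) :=
  Cfsg.Agent.Lib.Helper82.isChar_comp_hom hψ D.C.subtype

/-- multiplicity of `ζ` in the restriction of `ψ` to `C` -/
noncomputable def mm (ψ : G → ℂ) (ζ : D.C → ℂ) : ℂ := classInner (D.res ψ) ζ

theorem mm_nat {ψ : G → ℂ} (hψ : IsCharacter G ψ) {ζ : D.C → ℂ} (hζ : IsIrrCharacter D.C ζ) :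
    ∃ n : ℕ, D.mm ψ ζ = n := isCharacter_classInner_nat (D.isChar_res hψ) hζ

theorem mm_cj {ψ : G → ℂ} (hψ : IsClassFunction G ψ) (ζ : D.C → ℂ) (x : D.N) :
    D.mm ψ (ζ ∘ D.cj x) = D.mm ψ ζ := by
  unfold mm classInner
  congr 1
  refine Fintype.sum_equiv (D.cj x).toEquiv _ _ ?_
  intro c
  simp only [Function.comp_apply, MulEquiv.toEquiv_eq_coe, MulEquiv.coe_toEquiv, res_apply, cj_coe]
  have := hψ (c : G) (x : G)⁻¹
  rw [inv_inv] at this
  rw [this]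

theorem mm_eq_of_cj {ψ : G → ℂ} (hψ : IsClassFunction G ψ) {ζ ζ' : D.C → ℂ} (h : D.Cj ζ ζ') :
    D.mm ψ ζ' = D.mm ψ ζ := by
  obtain ⟨x, rfl⟩ := h
  exact D.mm_cj hψ ζ x

/-- Frobenius reciprocity in the form used here -/
theorem inner_ind {ψ : G → ℂ} (hψ : IsCharacter G ψ) {ζ : D.C → ℂ} (hζ : IsIrrCharacter D.C ζ) :
    classInner (indFun D.C ζ) ψ = D.mm ψ ζ := by
  rw [Cfsg.Agent.Lib.Helper19.frobenius_reciprocity D.C ζ ψ
    (Cfsg.Agent.Lib.Helper82.isChar_isClassFunction hψ)]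
  obtain ⟨n, hn⟩ := D.mm_nat hψ hζ
  have : classInner ζ (D.res ψ) = conj (D.mm ψ ζ) := (classInner_conj_symm _ _).symm
  rw [hn] at this ⊢
  have h2 : classInner ζ (D.res ψ) = n := by simpa using this
  exact h2

theorem inner_ind_sub_irr {ψ : G → ℂ} (hψ : IsCharacter G ψ) {ζ ζ' : D.C → ℂ}
    (hζ : IsIrrCharacter D.C ζ) (hζ' : IsIrrCharacter D.C ζ') :
    classInner (indFun D.C (ζ - ζ')) ψ = D.mm ψ ζ - D.mm ψ ζ' := by
  rw [Cfsg.Agent.Lib.Helper4.indFun_sub, classInner_sub_left, D.inner_ind hψ hζ,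
    D.inner_ind hψ hζ']

theorem genChar_ind_sub {ζ ζ' : D.C → ℂ}
    (hζ : IsIrrCharacter D.C ζ) (hζ' : IsIrrCharacter D.C ζ') :
    IsGeneralizedCharacter G (indFun D.C (ζ - ζ')) := by
  rw [Cfsg.Agent.Lib.Helper4.indFun_sub]
  exact ⟨_, _, Cfsg.Agent.Lib.Helper19.isCharacter_indFun D.C ζ
    (Cfsg.Agent.Lib.Helper82.isIrr_isChar hζ),
    Cfsg.Agent.Lib.Helper19.isCharacter_indFun D.C ζ'
    (Cfsg.Agent.Lib.Helper82.isIrr_isChar hζ'), rfl⟩

theorem ind_sub_one {ζ ζ' : D.C → ℂ} (h : ζ 1 = ζ' 1) : indFun D.C (ζ - ζ') 1 = 0 := by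
  rw [Cfsg.Agent.Lib.Helper82.indFun_one]
  simp [h]

end Fin

end Data

end Cfsg.Agent.Lib.Helper98.BL
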