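import Cfsg.Agent.Lib.Helper32.GenChar
import Cfsg.Agent.Lib.Helper82.Constituent
import Cfsg.Agent.Lib.Helper82.Central
import Cfsg.Agent.Lib.Helper82.CharKer
import Cfsg.Agent.Lib.Helper82.Linear
import Cfsg.Agent.Lib.Helper19.IndChar
import Cfsg.Agent.Lib.Helper19.CharMisc
import Cfsg.Agent.Lib.Helper4.IndSpan

/-!
# Induction from a subgroup `C` of functions supported on a TI-like subset

Set-up for the Brauer-Leonard type theorems S4485 / S4486.
-/

set_option autoImplicit false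

namespace Cfsg.Agent.Lib.Helper98.BL

open Cfsg Cfsg.Agent.Lib.Helper20
open scoped ComplexConjugate

universe u

/-- The abstract data: `Z` a central subgroup of `C` with a retraction `r : C → Z`, the elements
of `C` outside `ker r` form a TI-like set, and the normalizer of `C` acts semiregularly on `Z`. -/
structure Data (G : Type u) [Group G] where
  C : Subgroup G
  Z : Subgroup G
  hZC : Z ≤ C
  hcent : ∀ z ∈ Z, ∀ c ∈ C, z * c = c * z
  r : C →* Z
  hr : ∀ z : Z, r ⟨z, hZC z.2⟩ = z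
  hTI : ∀ c : C, r c ≠ 1 → ∀ g : G, g * c * g⁻¹ ∈ C → g ∈ Subgroup.normalizer (C : Set G)
  hSR : ∀ x ∈ Subgroup.normalizer (C : Set G), x ∉ C → ∀ w ∈ Z,
    ∃ y ∈ Z, x⁻¹ * y * x ∈ Z ∧ w = y⁻¹ * (x⁻¹ * y * x)

variable {G : Type u} [Group G]

namespace Data

variable (D : Data G)

/-- the normalizer of `C` -/
abbrev N : Subgroup G := Subgroup.normalizer (D.C : Set G)

theorem C_le_N : D.C ≤ D.N := Subgroup.le_normalizer

theorem conj_mem (x : D.N) (c : D.C) : (x : G)⁻¹ * c * x ∈ D.C := by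
  have h := (Subgroup.mem_normalizer_iff.1 (inv_mem x.2) (c : G)).1 c.2
  simpa using h

theorem conj_mem' (x : D.N) (c : D.C) : (x : G) * c * (x : G)⁻¹ ∈ D.C :=
  (Subgroup.mem_normalizer_iff.1 x.2 (c : G)).1 c.2

/-- conjugation by an element of the normalizer, as an automorphism of `C`:
`c ↦ x⁻¹ c x`. -/
def cj (x : D.N) : D.C ≃* D.C where
  toFun c := ⟨(x : G)⁻¹ * c * x, D.conj_mem x c⟩
  invFun c := ⟨(x : G) * c * (x : G)⁻¹, D.conj_mem' x c⟩
  left_inv c := by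
    apply Subtype.ext
    simp [mul_assoc]
  right_inv c := by
    apply Subtype.ext
    simp [mul_assoc]
  map_mul' a b := by
    apply Subtype.ext
    simp [mul_assoc]

@[simp] theorem cj_coe (x : D.N) (c : D.C) : ((D.cj x c : D.C) : G) = (x : G)⁻¹ * c * x := rfl

theorem cj_mul (x y : D.N) (c : D.C) : D.cj (x * y) c = D.cj y (D.cj x c) := by
  apply Subtype.ext
  simp [mul_assoc]

theorem cj_one (c : D.C) : D.cj 1 c = c := by
  apply Subtype.ext
  simp

theorem cj_inv_cj (x : D.N) (c : D.C) : D.cj x⁻¹ (D.cj x c) = c := by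
  rw [← cj_mul, mul_inv_cancel, cj_one]

theorem cj_cj_inv (x : D.N) (c : D.C) : D.cj x (D.cj x⁻¹ c) = c := by
  rw [← cj_mul, inv_mul_cancel, cj_one]

/-- the inclusion of `C` in its normalizer -/
def inC (c : D.C) : D.N := ⟨c, D.C_le_N c.2⟩

theorem cj_inC (c c' : D.C) : D.cj (D.inC c) c' = c⁻¹ * c' * c := by
  apply Subtype.ext
  simp [inC]

theorem comp_cj_inC {ζ : D.C → ℂ} (hζ : IsClassFunction D.C ζ) (c : D.C) :
    ζ ∘ D.cj (D.inC c) = ζ := by
  funext c'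
  have := hζ c' c⁻¹
  simp only [Function.comp_apply, cj_inC]
  rw [inv_inv] at this
  exact this

theorem isIrr_comp_cj {ζ : D.C → ℂ} (hζ : IsIrrCharacter D.C ζ) (x : D.N) :
    IsIrrCharacter D.C (ζ ∘ D.cj x) :=
  Cfsg.Agent.Lib.Helper82.isIrr_comp_surj hζ (D.cj x).toMonoidHom (D.cj x).surjective

section Fin

variable [Fintype G] [Fintype D.C] [Fintype D.N]

/-- restriction to `C` -/
def res (ψ : G → ℂ) : D.C → ℂ := fun c => ψ c

theorem res_apply (ψ : G → ℂ) (c : D.C) : D.res ψ c = ψ c := rfl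

/-- **Restriction formula**: for `φ` vanishing on `ker r`, the induced function restricted to `C`
is the sum of the `N`-conjugates of `φ`. -/
theorem indFun_res (φ : D.C → ℂ) (hφ : ∀ c, D.r c = 1 → φ c = 0) (c : D.C) :
    indFun D.C φ c = (Nat.card D.C : ℂ)⁻¹ * ∑ x : D.N, φ (D.cj x c) := by
  rw [Cfsg.Agent.Lib.Helper19.indFun_apply]
  congr 1
  symm
  apply Fintype.sum_of_injective (Subtype.val : D.N → G) Subtype.val_injective
  · intro x hx
    have hxN : x ∉ D.N := fun h => hx ⟨⟨x, h⟩, rfl⟩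
    by_cases hC : x⁻¹ * c * x ∈ D.C
    · rw [Cfsg.Agent.Lib.Helper19.extendByZero_of_mem D.C φ hC]
      apply hφ
      by_contra hr
      apply hxN
      apply D.hTI ⟨_, hC⟩ hr x
      have : x * (x⁻¹ * (c : G) * x) * x⁻¹ = c := by group
      simp only [this]
      exact c.2
    · exact Cfsg.Agent.Lib.Helper19.extendByZero_of_not_mem D.C φ hC
  · intro x
    rw [← Cfsg.Agent.Lib.Helper19.extendByZero_coe D.C φ (D.cj x c)]
    rfl

/-- the averaged inner product of the `N`-conjugates of `ζ` with `ζ'` -/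
noncomputable def cc (ζ ζ' : D.C → ℂ) : ℂ :=
  (Nat.card D.C : ℂ)⁻¹ * ∑ x : D.N, classInner (ζ ∘ D.cj x) ζ'

theorem inner_ind_ind (φ ζ' : D.C → ℂ) (hφ : ∀ c, D.r c = 1 → φ c = 0) :
    classInner (indFun D.C φ) (indFun D.C ζ') = D.cc φ ζ' := by
  rw [← classInner_conj_symm, Cfsg.Agent.Lib.Helper19.frobenius_reciprocity D.C ζ' _
    (Cfsg.Agent.Lib.Helper19.indFun_isClassFunction D.C φ), classInner_conj_symm]
  have h : (fun h : D.C => indFun D.C φ h) =
      (Nat.card D.C : ℂ)⁻¹ • ∑ x : D.N, (φ ∘ D.cj x) := by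
    funext c
    rw [D.indFun_res φ hφ c]
    simp
  rw [h, classInner_smul_left, classInner_sum_left]
  rfl

theorem cc_sub_left (ζ₁ ζ₂ ζ' : D.C → ℂ) : D.cc (ζ₁ - ζ₂) ζ' = D.cc ζ₁ ζ' - D.cc ζ₂ ζ' := by
  unfold cc
  rw [← mul_sub, ← Finset.sum_sub_distrib]
  congr 1
  apply Finset.sum_congr rfl
  intro x _
  rw [← classInner_sub_left]
  rfl

/-- inner products of induced differences -/
theorem inner_ind_sub (ζ₁ ζ₂ ζ₃ ζ₄ : D.C → ℂ) (h : ∀ c, D.r c = 1 → ζ₁ c = ζ₂ c) :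
    classInner (indFun D.C (ζ₁ - ζ₂)) (indFun D.C (ζ₃ - ζ₄)) =
      D.cc ζ₁ ζ₃ - D.cc ζ₂ ζ₃ - (D.cc ζ₁ ζ₄ - D.cc ζ₂ ζ₄) := by
  have hφ : ∀ c, D.r c = 1 → (ζ₁ - ζ₂) c = 0 := by
    intro c hc
    simp [h c hc]
  rw [Cfsg.Agent.Lib.Helper4.indFun_sub D.C ζ₃ ζ₄, classInner_sub_right,
    D.inner_ind_ind _ _ hφ, D.inner_ind_ind _ _ hφ, cc_sub_left, cc_sub_left]

end Fin

end Data

end Cfsg.Agent.Lib.Helper98.BL
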