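import Cfsg.Agent.Lib.Helper98.BL.Hat

/-!
# Key lemmas: norm two differences and the negative coefficient lemma
-/

set_option autoImplicit false
set_option linter.unusedSectionVars false

namespace Cfsg.Agent.Lib.Helper98.BL

open Cfsg Cfsg.Agent.Lib.Helper20 Cfsg.Agent.Lib.Helper32
open scoped ComplexConjugate

universe u

variable {G : Type u} [Group G]

/-- A generalized character of degree `0` cannot have its whole norm concentrated on irreducible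
characters occurring with negative coefficients. -/
theorem neg_coeff [Fintype G] {Γ : G → ℂ} (hΓ : IsGeneralizedCharacter G Γ) (h1 : Γ 1 = 0)
    (a : IrrCharacter G → ℤ) (ha : ∀ χ : IrrCharacter G, classInner Γ (χ : G → ℂ) = a χ)
    (F : Finset (IrrCharacter G)) (hF : F.Nonempty) (hneg : ∀ χ ∈ F, a χ < 0)
    (n : ℤ) (hn : classInner Γ Γ = n) (hle : n ≤ ∑ χ ∈ F, a χ ^ 2) : False := by
  classical
  have := finite_irrCharacter (G := G)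
  have := Fintype.ofFinite (IrrCharacter G)
  have hnorm := genChar_norm hΓ ha
  rw [hn] at hnorm
  have hnorm' : n = ∑ χ : IrrCharacter G, a χ ^ 2 := by exact_mod_cast hnorm
  have hsplit : ∑ χ : IrrCharacter G, a χ ^ 2 = ∑ χ ∈ F, a χ ^ 2 + ∑ χ ∈ Fᶜ, a χ ^ 2 :=
    (Finset.sum_add_sum_compl F _).symm
  have hnn : 0 ≤ ∑ χ ∈ Fᶜ, a χ ^ 2 := Finset.sum_nonneg (fun j _ => sq_nonneg _)
  have h0 : ∑ χ ∈ Fᶜ, a χ ^ 2 = 0 := by omega
  have hz : ∀ χ ∈ Fᶜ, a χ = 0 := by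
    intro χ hχ
    have := (Finset.sum_eq_zero_iff_of_nonneg (fun j _ => sq_nonneg (a j))).1 h0 χ hχ
    exact pow_eq_zero_iff (two_ne_zero) |>.1 this
  have hexp := congrFun (genChar_expand hΓ ha) 1
  rw [h1] at hexp
  choose d hd hd1 using fun χ : IrrCharacter G => irr_apply_one χ.2
  have h2 : (0 : ℂ) = ((∑ χ : IrrCharacter G, a χ * (d χ : ℤ) : ℤ) : ℂ) := by
    rw [hexp]
    simp only [Finset.sum_apply, Pi.smul_apply, smul_eq_mul, hd1]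
    push_cast
    rfl
  have h3 : ∑ χ : IrrCharacter G, a χ * (d χ : ℤ) = 0 := by exact_mod_cast h2.symm
  have h4 : ∑ χ : IrrCharacter G, a χ * (d χ : ℤ) = ∑ χ ∈ F, a χ * (d χ : ℤ) := by
    rw [← Finset.sum_add_sum_compl F]
    rw [Finset.sum_eq_zero (s := Fᶜ) (fun χ hχ => by rw [hz χ hχ, zero_mul]), add_zero]
  have h5 : ∑ χ ∈ F, a χ * (d χ : ℤ) < 0 := by
    apply Finset.sum_neg _ hF
    intro χ hχ
    have h6 := hneg χ hχ
    have h7 : (0 : ℤ) < d χ := by exact_mod_cast hd χ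
    exact mul_neg_of_neg_of_pos h6 h7
  omega

namespace Data

variable (D : Data G) [Fintype G] [Fintype D.C] [Fintype D.N]

theorem not_cj_of_mm {ψ : G → ℂ} (hψ : IsClassFunction G ψ) {ζ ζ' : D.C → ℂ}
    (h : D.mm ψ ζ ≠ D.mm ψ ζ') : ¬ D.Cj ζ ζ' := fun hc => h (D.mm_eq_of_cj hψ hc).symm

/-- inner products of differences of irreducible characters not trivial on `Z` -/
theorem inner_DD {ζ₁ ζ₂ ζ₃ ζ₄ : D.C → ℂ} (h₁ : IsIrrCharacter D.C ζ₁) (h₂ : IsIrrCharacter D.C ζ₂)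
    (h₃ : IsIrrCharacter D.C ζ₃) (h₄ : IsIrrCharacter D.C ζ₄) (n₁ : ¬ D.PTriv ζ₁)
    (n₂ : ¬ D.PTriv ζ₂) (h : ∀ c, D.r c = 1 → ζ₁ c = ζ₂ c)
    [Decidable (D.Cj ζ₁ ζ₃)] [Decidable (D.Cj ζ₂ ζ₃)] [Decidable (D.Cj ζ₁ ζ₄)]
    [Decidable (D.Cj ζ₂ ζ₄)] :
    classInner (indFun D.C (ζ₁ - ζ₂)) (indFun D.C (ζ₃ - ζ₄)) =
      (if D.Cj ζ₁ ζ₃ then 1 else 0) - (if D.Cj ζ₂ ζ₃ then 1 else 0) -
        ((if D.Cj ζ₁ ζ₄ then 1 else 0) - (if D.Cj ζ₂ ζ₄ then 1 else 0)) := by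
  rw [D.inner_ind_sub _ _ _ _ h, D.cc_eq_ite h₁ h₃ n₁, D.cc_eq_ite h₂ h₃ n₂, D.cc_eq_ite h₁ h₄ n₁,
    D.cc_eq_ite h₂ h₄ n₂]

/-- **Norm two lemma.** -/
theorem key1 {ψ : G → ℂ} (hψ : IsIrrCharacter G ψ) {ζ ζ' : D.C → ℂ}
    (hζ : IsIrrCharacter D.C ζ) (hζ' : IsIrrCharacter D.C ζ') (n : ¬ D.PTriv ζ)
    (n' : ¬ D.PTriv ζ') (h : ∀ c, D.r c = 1 → ζ c = ζ' c)
    (hm : D.mm ψ ζ ≠ 0) (hm' : D.mm ψ ζ' = 0) :
    ∃ Y : IrrCharacter G, (Y : G → ℂ) ≠ ψ ∧ indFun D.C (ζ - ζ') = ψ - (Y : G → ℂ) := by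
  classical
  have hψc : IsCharacter G ψ := Cfsg.Agent.Lib.Helper82.isIrr_isChar hψ
  have hcl : IsClassFunction G ψ := Cfsg.Agent.Lib.Helper82.isChar_isClassFunction hψc
  have hnc : ¬ D.Cj ζ ζ' := D.not_cj_of_mm hcl (by rw [hm']; exact hm)
  have hnc' : ¬ D.Cj ζ' ζ := fun hc => hnc hc.symm
  have hnorm : classInner (indFun D.C (ζ - ζ')) (indFun D.C (ζ - ζ')) = 2 := by
    rw [D.inner_DD hζ hζ' hζ hζ' n n' h, if_pos (Cj.refl D ζ), if_pos (Cj.refl D ζ'), if_neg hnc,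
      if_neg hnc']
    norm_num
  have h1 : indFun D.C (ζ - ζ') 1 = 0 := D.ind_sub_one (h 1 (map_one _))
  obtain ⟨μ₁, μ₂, hμ₁, hμ₂, hne, heq⟩ := genChar_norm_two (D.genChar_ind_sub hζ hζ') hnorm h1
  have hin : classInner (indFun D.C (ζ - ζ')) ψ = D.mm ψ ζ := by
    rw [D.inner_ind_sub_irr hψc hζ hζ', hm', sub_zero]
  obtain ⟨k, hk⟩ := D.mm_nat hψc hζ
  rw [heq, classInner_sub_left, hk] at hin
  have hk0 : k ≠ 0 := by
    intro h0
    apply hm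
    rw [hk, h0]
    simp
  by_cases h₁ : μ₁ = ψ
  · refine ⟨⟨μ₂, hμ₂⟩, ?_, ?_⟩
    · intro h2
      exact hne (h₁.trans h2.symm)
    · rw [heq, h₁]
  · exfalso
    rw [classInner_irr_ne hμ₁ hψ h₁, zero_sub] at hin
    by_cases h₂ : μ₂ = ψ
    · rw [h₂, classInner_irr_self hψ] at hin
      have : (-1 : ℤ) = (k : ℤ) := by exact_mod_cast hin
      omega
    · rw [classInner_irr_ne hμ₂ hψ h₂] at hin
      apply hk0
      have : (0 : ℤ) = (k : ℤ) := by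
        have h3 : ((0 : ℤ) : ℂ) = ((k : ℤ) : ℂ) := by
          push_cast
          rw [← hin]
          simp
        exact_mod_cast h3
      omega

end Data

end Cfsg.Agent.Lib.Helper98.BL
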